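import Cfsg.Agent.Lib.Fus.SuzUniq.Cert.J2Part0

/-! A checked coset enumeration. -/

set_option autoImplicit false
set_option maxRecDepth 100000
set_option maxHeartbeats 4000000

open Cfsg.Agent.Spor.Cos

namespace Cfsg.Agent.Fus.SuzUniq.Cert

theorem j2_def0 : allBlock j2.chkDef 5346 512 0 = true := by decide +kernel

theorem j2_def1 : allBlock j2.chkDef 5346 512 1 = true := by decide +kernel

theorem j2_def2 : allBlock j2.chkDef 5346 512 2 = true := by decide +kernel

theorem j2_def3 : allBlock j2.chkDef 5346 512 3 = true := by decide +kernel

theorem j2_def4 : allBlock j2.chkDef 5346 512 4 = true := by decide +kernel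

theorem j2_def5 : allBlock j2.chkDef 5346 512 5 = true := by decide +kernel

theorem j2_def6 : allBlock j2.chkDef 5346 512 6 = true := by decide +kernel

theorem j2_def7 : allBlock j2.chkDef 5346 512 7 = true := by decide +kernel

theorem j2_def8 : allBlock j2.chkDef 5346 512 8 = true := by decide +kernel

theorem j2_def9 : allBlock j2.chkDef 5346 512 9 = true := by decide +kernel

theorem j2_def10 : allBlock j2.chkDef 5346 512 10 = true := by decide +kernel

theorem j2_defs : ∀ i, i + 1 < j2.M → j2.chkDef i = true := by
  intro i hi
  change i + 1 < 5347 at hi
  refine of_allBlock (n := 5346) (size := 512) (by decide) (fun j hj => ?_) (by omega)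
  have hj' : j < 11 := by omega
  interval_cases j
  · exact j2_def0
  · exact j2_def1
  · exact j2_def2
  · exact j2_def3
  · exact j2_def4
  · exact j2_def5
  · exact j2_def6
  · exact j2_def7
  · exact j2_def8
  · exact j2_def9
  · exact j2_def10

theorem j2_facts : ∀ i, j2.M ≤ i + 1 → i < j2.nF → ∃ J, j2.chkFact i J = true := by
  exact j2.facts_of_covers (Log.Covers.trans j2 (Log.Covers.trans j2 (Log.Covers.trans j2 (j2.covers_of_part _ _ _ j2_part0) (Log.Covers.trans j2 (j2.covers_of_part _ _ _ j2_part1) (j2.covers_of_part _ _ _ j2_part2))) (Log.Covers.trans j2 (j2.covers_of_part _ _ _ j2_part3) (Log.Covers.trans j2 (j2.covers_of_part _ _ _ j2_part4) (j2.covers_of_part _ _ _ j2_part5)))) (Log.Covers.trans j2 (Log.Covers.trans j2 (j2.covers_of_part _ _ _ j2_part6) (Log.Covers.trans j2 (j2.covers_of_part _ _ _ j2_part7) (j2.covers_of_part _ _ _ j2_part8))) (Log.Covers.trans j2 (j2.covers_of_part _ _ _ j2_part9) (Log.Covers.trans j2 (j2.covers_of_part _ _ _ j2_part10) (j2.covers_of_part _ _ _ j2_part11))))) rfl rfl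

theorem j2_final0 : allBlock j2.chkFinal 16800 512 0 = true := by decide +kernel

theorem j2_final1 : allBlock j2.chkFinal 16800 512 1 = true := by decide +kernel

theorem j2_final2 : allBlock j2.chkFinal 16800 512 2 = true := by decide +kernel

theorem j2_final3 : allBlock j2.chkFinal 16800 512 3 = true := by decide +kernel

theorem j2_final4 : allBlock j2.chkFinal 16800 512 4 = true := by decide +kernel

theorem j2_final5 : allBlock j2.chkFinal 16800 512 5 = true := by decide +kernel

theorem j2_final6 : allBlock j2.chkFinal 16800 512 6 = true := by decide +kernel

theorem j2_final7 : allBlock j2.chkFinal 16800 512 7 = true := by decide +kernel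

theorem j2_final8 : allBlock j2.chkFinal 16800 512 8 = true := by decide +kernel

theorem j2_final9 : allBlock j2.chkFinal 16800 512 9 = true := by decide +kernel

theorem j2_final10 : allBlock j2.chkFinal 16800 512 10 = true := by decide +kernel

theorem j2_final11 : allBlock j2.chkFinal 16800 512 11 = true := by decide +kernel

theorem j2_final12 : allBlock j2.chkFinal 16800 512 12 = true := by decide +kernel

theorem j2_final13 : allBlock j2.chkFinal 16800 512 13 = true := by decide +kernel

theorem j2_final14 : allBlock j2.chkFinal 16800 512 14 = true := by decide +kernel

theorem j2_final15 : allBlock j2.chkFinal 16800 512 15 = true := by decide +kernel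

theorem j2_final16 : allBlock j2.chkFinal 16800 512 16 = true := by decide +kernel

theorem j2_final17 : allBlock j2.chkFinal 16800 512 17 = true := by decide +kernel

theorem j2_final18 : allBlock j2.chkFinal 16800 512 18 = true := by decide +kernel

theorem j2_final19 : allBlock j2.chkFinal 16800 512 19 = true := by decide +kernel

theorem j2_final20 : allBlock j2.chkFinal 16800 512 20 = true := by decide +kernel

theorem j2_final21 : allBlock j2.chkFinal 16800 512 21 = true := by decide +kernel

theorem j2_final22 : allBlock j2.chkFinal 16800 512 22 = true := by decide +kernel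

theorem j2_final23 : allBlock j2.chkFinal 16800 512 23 = true := by decide +kernel

theorem j2_final24 : allBlock j2.chkFinal 16800 512 24 = true := by decide +kernel

theorem j2_final25 : allBlock j2.chkFinal 16800 512 25 = true := by decide +kernel

theorem j2_final26 : allBlock j2.chkFinal 16800 512 26 = true := by decide +kernel

theorem j2_final27 : allBlock j2.chkFinal 16800 512 27 = true := by decide +kernel

theorem j2_final28 : allBlock j2.chkFinal 16800 512 28 = true := by decide +kernel

theorem j2_final29 : allBlock j2.chkFinal 16800 512 29 = true := by decide +kernel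

theorem j2_final30 : allBlock j2.chkFinal 16800 512 30 = true := by decide +kernel

theorem j2_final31 : allBlock j2.chkFinal 16800 512 31 = true := by decide +kernel

theorem j2_final32 : allBlock j2.chkFinal 16800 512 32 = true := by decide +kernel

theorem j2_checks : j2.Checks where
  pos := by decide +kernel
  defs := j2_defs
  facts := j2_facts
  final := by
    intro k hk
    change k < 3360 * 5 at hk
    refine of_allBlock (n := 16800) (size := 512) (by decide) (fun j hj => ?_) (by omega)
    have hj' : j < 33 := by omega
    interval_cases j
    · exact j2_final0
    · exact j2_final1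
    · exact j2_final2
    · exact j2_final3
    · exact j2_final4
    · exact j2_final5
    · exact j2_final6
    · exact j2_final7
    · exact j2_final8
    · exact j2_final9
    · exact j2_final10
    · exact j2_final11
    · exact j2_final12
    · exact j2_final13
    · exact j2_final14
    · exact j2_final15
    · exact j2_final16
    · exact j2_final17
    · exact j2_final18
    · exact j2_final19
    · exact j2_final20
    · exact j2_final21
    · exact j2_final22
    · exact j2_final23
    · exact j2_final24
    · exact j2_final25
    · exact j2_final26
    · exact j2_final27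
    · exact j2_final28
    · exact j2_final29
    · exact j2_final30
    · exact j2_final31
    · exact j2_final32

theorem j2_derived : j2.rels.all (derivedOk j2.n j2Base) = true := by decide +kernel

end Cfsg.Agent.Fus.SuzUniq.Cert
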